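import Mathlib

set_option autoImplicit false

/-! Project LW7 (S0747): a `k`-transitive group, `4 ≤ k < n`, induces at least the alternating group
on some `(k+1)`-set.  Common definitions (helper10). -/

namespace Cfsg.Agent.Lib.Helper10.LW7

open MulAction Equiv

variable {α : Type*} [Fintype α] [DecidableEq α]

/-- the group induced on `Ψ` by the elements of `G` mapping `Ψ` to itself -/
def induced (G : Subgroup (Perm α)) (Ψ : Finset α) : Subgroup (Perm ↥Ψ) where
  carrier := {n | ∃ g ∈ G, ∀ x : ↥Ψ, g (x : α) = ((n x : ↥Ψ) : α)}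
  mul_mem' := by
    rintro a b ⟨g, hg, hga⟩ ⟨g', hg', hgb⟩
    refine ⟨g * g', G.mul_mem hg hg', fun x => ?_⟩
    rw [Perm.mul_apply, hgb x, hga (b x), Perm.mul_apply]
  one_mem' := ⟨1, G.one_mem, fun x => rfl⟩
  inv_mem' := by
    rintro a ⟨g, hg, hga⟩
    refine ⟨g⁻¹, G.inv_mem hg, fun x => ?_⟩
    have h := hga (a⁻¹ x)
    have h2 : a (a⁻¹ x) = x := by simp
    rw [h2] at h
    rw [Perm.inv_eq_iff_eq, h]

omit [Fintype α] [DecidableEq α] in
theorem mem_induced {G : Subgroup (Perm α)} {Ψ : Finset α} {n : Perm ↥Ψ} :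
    n ∈ induced G Ψ ↔ ∃ g ∈ G, ∀ x : ↥Ψ, g (x : α) = ((n x : ↥Ψ) : α) := Iff.rfl

/-- the conclusion of S0747 -/
def Good (G : Subgroup (Perm α)) (k : ℕ) : Prop :=
  ∃ Δ : Finset α, Δ.card = k + 1 ∧ alternatingGroup ↥Δ ≤ induced G Δ

open Classical in
/-- the fixed points of a subgroup, as a finset -/
noncomputable def fixF (Q : Subgroup (Perm α)) : Finset α :=
  Finset.univ.filter fun a => ∀ q ∈ Q, q a = a

theorem mem_fixF {Q : Subgroup (Perm α)} {a : α} : a ∈ fixF Q ↔ ∀ q ∈ Q, q a = a := by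
  simp [fixF]

end Cfsg.Agent.Lib.Helper10.LW7
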