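import Mathlib
import Cfsg.Agent.Lib.Helper10.LW7.Defs
import Cfsg.Agent.Lib.Helper10.LWP2
import Cfsg.Agent.Lib.helper3.LWP3
import Cfsg.Agent.Lib.Helper19.LWP5
import Cfsg.Agent.Lib.Helper19.LWP6

set_option autoImplicit false

/-! Project LW7 (S0747), pieces B0, B1, B2b (helper10): numerics of the semiregular case. -/

namespace Cfsg.Agent.Lib.Helper10.LW7

open MulAction Equiv
open scoped Pointwise
open Cfsg.Agent.Lib.helper6 (dvd_ncard_of_invariant)
open Cfsg.Agent.S0744 (not_mem_of_orbit_fixing)

variable {α : Type*} [Fintype α] [DecidableEq α]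

/-- B0 : numerics of the semiregular case -/
theorem semireg_numerics (G : Subgroup (Perm α)) {k : ℕ} (hkn : k < Fintype.card α)
    (hG : IsMultiplyPretransitive G α k)
    (hfix : ∀ s : Finset α, s.card = k + 1 → fixingSubgroup G (s : Set α) = ⊥) :
    ∃ h c : ℕ, 1 ≤ h ∧ 1 ≤ c ∧ Fintype.card α = k + h * c ∧
      (∀ s : Finset α, s.card = k → Nat.card (fixingSubgroup G (s : Set α)) = h) ∧
      Nat.card G = (Fintype.card α).descFactorial k * h := by
  set n := Fintype.card α with hn_def
  obtain ⟨S₀, _, hS₀⟩ := Finset.exists_subset_card_eq (s := (Finset.univ : Finset α))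
    (n := k) (by rw [Finset.card_univ]; omega)
  set h := Nat.card (fixingSubgroup G (S₀ : Set α)) with hh_def
  have hhpos : 1 ≤ h := Nat.card_pos
  have hhomt : IsPretransitive G (Set.powersetCard α k) :=
    Set.powersetCard.isPretransitive_of_isMultiplyPretransitive G hG
  have hconst : ∀ s : Finset α, s.card = k → Nat.card (fixingSubgroup G (s : Set α)) = h :=
    fun s hs => Cfsg.Agent.Lib.Helper10.LWP1.card_fixing_const G k hhomt S₀ s hS₀ hs
  have hcardG : Nat.card G = n.descFactorial k * h := by
    have hnc : ((S₀ : Set α)).ncard = k := by rw [Set.ncard_coe_finset, hS₀]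
    have hidx := IsMultiplyPretransitive.index_of_fixingSubgroup_eq (G := G) (S₀ : Set α)
      (by rw [hnc]; exact hG)
    rw [hnc, Nat.card_eq_fintype_card] at hidx
    rw [← Subgroup.index_mul_card (fixingSubgroup G (S₀ : Set α)), hidx,
      Nat.descFactorial_eq_factorial_mul_choose, mul_comm (k.factorial)]
  have horb : ∀ x, x ∉ S₀ →
      (orbit (fixingSubgroup G (S₀ : Set α)) x).ncard = h := by
    intro x hx
    rw [Cfsg.Agent.Lib.Helper10.LWP2.orbit_ncard G k hfix S₀ hS₀ x hx]
  have hcompl : ((S₀ : Set α)ᶜ).ncard = n - k := by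
    rw [Set.ncard_compl, Nat.card_eq_fintype_card, Set.ncard_coe_finset, hS₀]
  have hdvd : h ∣ n - k := by
    refine dvd_ncard_of_invariant (Q := fixingSubgroup G (S₀ : Set α)) h (n - k) ((S₀ : Set α)ᶜ)
      (Set.toFinite _) hcompl ?_ ?_
    · intro q x hx
      exact not_mem_of_orbit_fixing (S₀ : Set α) x (q • x) hx ⟨q, rfl⟩
    · intro x hx
      exact horb x (by simpa using hx)
  obtain ⟨c, hc⟩ := hdvd
  have hnt : n = k + h * c := by omega
  have hc0 : c ≠ 0 := by
    rintro rfl
    omega
  exact ⟨h, c, hhpos, by omega, hnt, hconst, hcardG⟩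

/-- B1 : the number of orbits -/
theorem c_cases (G : Subgroup (Perm α)) {k : ℕ} (hk : 4 ≤ k) (h c : ℕ) (hh : 1 ≤ h) (hc : 1 ≤ c)
    (hn : Fintype.card α = k + h * c)
    (hG : IsMultiplyPretransitive G α k)
    (hfix : ∀ s : Finset α, s.card = k + 1 → fixingSubgroup G (s : Set α) = ⊥)
    (hH : ∀ s : Finset α, s.card = k → Nat.card (fixingSubgroup G (s : Set α)) = h) :
    c ≤ 2 ∨ (h = 1 ∧ c = 7 ∧ k ≤ 5) := by
  rcases Nat.even_or_odd h with he | ho
  · exact Or.inl (Cfsg.Agent.Lib.helper3.LWP3.c_le_two (G := G) (t := k) (by omega) hh hn hfix hH he)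
  · rcases Nat.lt_or_ge h 3 with h3 | h3
    · have h1 : h = 1 := by
        rcases ho with ⟨j, hj⟩
        omega
      subst h1
      rcases Nat.lt_or_ge c 3 with hc3 | hc3
      · exact Or.inl (by omega)
      · right
        have hbot : ∀ s : Finset α, s.card = k → fixingSubgroup G (s : Set α) = ⊥ := by
          intro s hs
          exact (Subgroup.card_eq_one).mp (hH s hs)
        have := Cfsg.Agent.Lib.Helper19.LWP6.sharp_case G k c hk hc3 (by omega) hG hbot
        exact ⟨rfl, this.1, this.2⟩
    · left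
      have := Cfsg.Agent.Lib.Helper19.LWP5.no_odd_ge_three G k h c hk ho h3 hc hn hG hfix hH
      omega


/-- B2b, arithmetic core -/
theorem index_induced_le_of (G : Subgroup (Perm α)) {k h c : ℕ}
    (hn : Fintype.card α = k + h * c)
    (_hh : 1 ≤ h) (hcard : Nat.card G = (Fintype.card α).descFactorial k * h)
    (Δ : Finset α) (hΔ : Δ.card = k + 1) (m : ℕ) (hm : m ≤ (Fintype.card α).choose (k + 1))
    (hGm : Nat.card G = m * Nat.card (induced G Δ)) :
    (induced G Δ).index ≤ c := by
  set n := Fintype.card α with hn_def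
  set L := induced G Δ with hL
  have hidx : L.index * Nat.card L = (k + 1).factorial := by
    rw [Subgroup.index_mul_card, Nat.card_eq_fintype_card, Fintype.card_perm, Fintype.card_coe, hΔ]
  have hD : 0 < n.descFactorial k :=
    Nat.pos_of_ne_zero (by rw [Ne, Nat.descFactorial_eq_zero_iff_lt]; omega)
  have hGpos : 0 < Nat.card G := Nat.card_pos
  have e1 : n.descFactorial (k + 1) = (n - k) * n.descFactorial k := Nat.descFactorial_succ n k
  have e2 : n.descFactorial (k + 1) = (k + 1).factorial * n.choose (k + 1) :=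
    Nat.descFactorial_eq_factorial_mul_choose n (k + 1)
  have e3 : n - k = h * c := by omega
  -- index * |G| = m * (k+1)! ≤ choose * (k+1)! = c * |G|
  have key : L.index * Nat.card G ≤ c * Nat.card G := by
    calc L.index * Nat.card G = m * (L.index * Nat.card L) := by rw [hGm]; ring
      _ = m * (k + 1).factorial := by rw [hidx]
      _ ≤ n.choose (k + 1) * (k + 1).factorial := Nat.mul_le_mul_right _ hm
      _ = n.descFactorial (k + 1) := by rw [e2, mul_comm]
      _ = c * (n.descFactorial k * h) := by rw [e1, e3]; ring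
      _ = c * Nat.card G := by rw [hcard]
  exact Nat.le_of_mul_le_mul_right key hGpos

end Cfsg.Agent.Lib.Helper10.LW7
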