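import Mathlib
import Cfsg.Agent.Lib.Helper10.LW7.Defs
import Cfsg.Agent.Lib.Helper10.LW7.B01
import Cfsg.Agent.Lib.Helper1.LW7B2a
import Cfsg.Agent.Lib.Helper19.LW7S
import Cfsg.Agent.Lib.helper2.LW7I
import Cfsg.Agent.Lib.helper2.LW7F
import Cfsg.Agent.Lib.helper2.LW7W
import Cfsg.Agent.Lib.helper2.LW7M
import Cfsg.Agent.Lib.helper2.LW7T
import Cfsg.Agent.Lib.Helper19.LW7Gl
import Cfsg.Agent.Lib.helper4.LW7B4

set_option autoImplicit false

/-! Project LW7 (S0747): assembly (helper10). -/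

namespace Cfsg.Agent.Lib.Helper10.LW7

open MulAction Equiv

universe u
variable {α : Type u} [Fintype α] [DecidableEq α]


/-- B2b -/
theorem index_induced_le (G : Subgroup (Perm α)) {k h c : ℕ} (hn : Fintype.card α = k + h * c)
    (hh : 1 ≤ h) (hcard : Nat.card G = (Fintype.card α).descFactorial k * h)
    (Δ : Finset α) (hΔ : Δ.card = k + 1) (hfix : fixingSubgroup G (Δ : Set α) = ⊥) :
    (induced G Δ).index ≤ c := by
  obtain ⟨m, -, hm, hGm, -⟩ := Cfsg.Agent.Lib.Helper1.LW7B2a.card_induced_mul_ge G (k + 1) Δ hΔ hfix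
  exact index_induced_le_of G hn hh hcard Δ hΔ m hm hGm

theorem caseB (G : Subgroup (Perm α)) {k : ℕ} (hk : 4 ≤ k) (hkn : k < Fintype.card α)
    (hG : IsMultiplyPretransitive G α k)
    (hfix : ∀ s : Finset α, s.card = k + 1 → fixingSubgroup G (s : Set α) = ⊥) : Good G k := by
  obtain ⟨h, c, hh, hc, hn, hH, hcard⟩ := semireg_numerics G hkn hG hfix
  rcases c_cases G hk h c hh hc hn hG hfix hH with hc2 | ⟨rfl, rfl, hk5⟩
  · obtain ⟨Δ, -, hΔ⟩ := Finset.exists_subset_card_eq (s := (Finset.univ : Finset α))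
      (n := k + 1) (by rw [Finset.card_univ]; omega)
    refine ⟨Δ, hΔ, ?_⟩
    apply Equiv.Perm.alternatingGroup_le_of_index_le_two
    exact (index_induced_le G hn hh hcard Δ hΔ (hfix Δ hΔ)).trans hc2
  · exact Cfsg.Agent.Lib.helper4.LW7B4.good_of_seven G hk hk5 (by omega) hG (by simpa using hcard) hfix

theorem caseA (G : Subgroup (Perm α)) {k : ℕ} (hk : 4 ≤ k)
    (hG : IsMultiplyPretransitive G α k)
    (Δ₀ : Finset α) (hΔ₀ : Δ₀.card = k + 1) (hne : fixingSubgroup G (Δ₀ : Set α) ≠ ⊥) :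
    ∃ Ψ : Finset α, k < Ψ.card ∧ Ψ.card < Fintype.card α ∧
      IsMultiplyPretransitive (induced G Ψ) ↥Ψ k := by
  by_cases hS : ∀ (x : Fin k ↪ α) (p : ℕ) [Fact p.Prime] (P : Sylow p (stabilizer G x)),
      (P : Subgroup (stabilizer G x)) ≠ ⊥ →
      (fixF (((P : Subgroup (stabilizer G x)).map (stabilizer G x).subtype).map G.subtype)).card ≤ k
  · obtain ⟨p, Q, hp, hQG, hQp, hQ1, hfix, hmax⟩ := Cfsg.Agent.Lib.helper2.LW7M.exists_max_pgroup G k Δ₀ hΔ₀ hne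
    refine ⟨fixF Q, by omega, Cfsg.Agent.Lib.helper2.LW7F.card_fixF_lt Q hQ1, ?_⟩
    exact Cfsg.Agent.Lib.Helper19.LW7Gl.gleason_apply G (by omega) p hp Q hfix
      (fun s hs hsQ => Cfsg.Agent.Lib.Helper19.LW7S.exists_S G hS p hp Q hQG hQp hQ1 hfix hmax s hs hsQ)
  · push Not at hS
    obtain ⟨x, p, hp, P, hP1, hP⟩ := hS
    exact Cfsg.Agent.Lib.helper2.LW7W.witt_case G hG x p P hP1 (by omega)

theorem main : ∀ (n : ℕ) {α : Type u} [Fintype α] [DecidableEq α] (G : Subgroup (Perm α)) {k : ℕ},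
    4 ≤ k → Fintype.card α = n → k < n → IsMultiplyPretransitive G α k → Good G k := by
  intro n
  induction n using Nat.strong_induction_on with
  | _ n ih =>
    intro α _ _ G k hk hn hkn hG
    by_cases hfix : ∀ s : Finset α, s.card = k + 1 → fixingSubgroup G (s : Set α) = ⊥
    · exact caseB G hk (by omega) hG hfix
    · push Not at hfix
      obtain ⟨Δ₀, hΔ₀, hne⟩ := hfix
      obtain ⟨Ψ, hΨ1, hΨ2, hΨ3⟩ := caseA G hk hG Δ₀ hΔ₀ hne
      apply Cfsg.Agent.Lib.helper2.LW7T.good_of_induced G Ψ k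
      exact ih Ψ.card (by omega) (induced G Ψ) hk (by simp) hΨ1 hΨ3

/-- S0747 -/
theorem s0747 {α : Type*} [Fintype α] [DecidableEq α] (G : Subgroup (Equiv.Perm α))
    {k : ℕ} (hk : 4 ≤ k) (hkn : k < Fintype.card α) (hG : MulAction.IsMultiplyPretransitive G α k) :
    ∃ Δ : Finset α, Δ.card = k + 1 ∧ ∀ σ : Equiv.Perm ↥Δ, σ ∈ alternatingGroup ↥Δ →
      ∃ g ∈ G, ∀ x : ↥Δ, g (x : α) = σ x := by
  obtain ⟨Δ, hΔ, hA⟩ := main (Fintype.card α) G hk rfl hkn hG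
  exact ⟨Δ, hΔ, fun σ hσ => hA hσ⟩

end Cfsg.Agent.Lib.Helper10.LW7
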